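import Groth.Agent.Sga3B.Par.LeviProj
import Groth.Agent.Sga3B.BcPts
import Groth.Agent.Sga3C.QuotGlue
import Groth.Agent.Sga3C.QuotGrpRel
import Groth.Agent.Sga3C.QuotProps
import Groth.Prelude.Def_RedSub

/-!
# Quotients of group schemes by normal subgroups which have a complement locally on the base

`P` is a group scheme over `S`, `u : U ⟶ P` a normal subgroup, flat and locally of finite
presentation, such that Zariski locally on `S` the group `P` is a semidirect product `L ⋉ U`.
Then the fppf quotient `P / U` exists and is a group scheme over `S`, which is locally on `S`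
isomorphic to `L`.
-/

set_option autoImplicit false

universe u

open CategoryTheory Limits MonoidalCategory CartesianMonoidalCategory MonObj GrpObj AlgebraicGeometry

namespace Groth.Agent.RedSub.H655.QuotSemi

open Groth.Agent.Sga3B Groth.Agent.Sga3C.QuotRel Groth.Agent.Sga3C.QuotGrpRel
open Groth.Agent.Sga3B.Par.LeviProj

section Proj

variable {S : Scheme.{u}} {P U L : Over S} [GrpObj P] [GrpObj U] [GrpObj L] {l : L ⟶ P} {u : U ⟶ P}

/-- The projection `L ⋉ U ⟶ L` has every property of `U ⟶ S` which is stable under base change. -/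
theorem prop_prL (Q : MorphismProperty Scheme.{u}) [Q.RespectsIso] [Q.IsStableUnderBaseChange]
    (h : IsSemi l u) (hU : Q U.hom) : Q (prL h).left := by
  have := h.iso
  have h1 : Q (fst L U).left := Q.pullback_fst _ _ hU
  have h2 : IsIso (inv ((l ⊗ₘ u) ≫ μ)).left :=
    inferInstanceAs (IsIso ((Over.forget _).map (inv ((l ⊗ₘ u) ≫ μ))))
  have h3 : (prL h).left = (inv ((l ⊗ₘ u) ≫ μ)).left ≫ (fst L U).left := rfl
  rw [h3]
  exact (MorphismProperty.cancel_left_of_respectsIso Q _ _).2 h1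

theorem surjective_prL (h : IsSemi l u) : Surjective (prL h).left := by
  refine ⟨fun x => ⟨l.left x, ?_⟩⟩
  have h1 := congrArg (fun k : L ⟶ L => k.left x) (l_prL h)
  exact h1

/-- Two points with the same image differ by a point of `U` on the left. -/
theorem prL_eq_iff' (h : IsSemi l u) {X : Over S} (g g' : X ⟶ P) :
    g ≫ prL h = g' ≫ prL h ↔ ∃ b : X ⟶ U, g = (b ≫ u) * g' := by
  rw [prL_eq_iff]
  constructor
  · rintro ⟨b, rfl⟩
    obtain ⟨c, hc⟩ := h.normal X g' b
    exact ⟨c, by rw [← hc]; group⟩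
  · rintro ⟨b, rfl⟩
    obtain ⟨c, hc⟩ := h.normal X g'⁻¹ b
    exact ⟨c, by rw [← hc]; group⟩

end Proj

section Loc

variable {S : Scheme.{u}} {P U : Over S} [GrpObj P] [GrpObj U] {u : U ⟶ P} {V : Scheme.{u}}
  (f : V ⟶ S) [IsOpenImmersion f] {L : Over V} [GrpObj L] {l : L ⟶ Red.bc f P}

/-- The part of `P` lying over the image of `V`. -/
noncomputable abbrev opn (P : Over S) : P.left.Opens := (pullback.fst P.hom f).opensRange

omit [GrpObj P] in
theorem mem_opn {x : P.left} : x ∈ opn f P ↔ P.hom x ∈ Set.range f := by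
  have h1 := Scheme.Pullback.range_fst (f := P.hom) (g := f)
  change x ∈ Set.range (pullback.fst P.hom f) ↔ _
  rw [h1]
  rfl

omit [GrpObj U] in
theorem sat_opn : Sat (tt u) (ss (F := U) (G := P)) (opn f P) := by
  intro r
  rw [mem_opn, mem_opn, ← Scheme.Hom.comp_apply, ← Scheme.Hom.comp_apply]
  have h1 : tt u ≫ P.hom = (U ⊗ P).hom := Over.w ((u ▷ P) ≫ μ[P])
  have h2 : ss ≫ P.hom = (U ⊗ P).hom := Over.w (snd U P)
  rw [h1, h2]

omit [GrpObj P] [IsOpenImmersion f] in
theorem bcEquiv_symm_left {X : Over V} (a : X ⟶ Red.bc f P) :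
    ((BcPts.bcEquiv f X P).symm a).left = a.left ≫ pullback.fst P.hom f := by
  simp [BcPts.bcEquiv, Adjunction.homEquiv_counit]

omit [GrpObj P] [IsOpenImmersion f] in
theorem w_of_comp_prL [GrpObj P] (h : IsSemi l ((Over.pullback f).map u)) {T : Scheme.{u}}
    {a b : T ⟶ (Red.bc f P).left} (hab : a ≫ (prL h).left = b ≫ (prL h).left) :
    a ≫ (Red.bc f P).hom = b ≫ (Red.bc f P).hom := by
  rw [← Over.w (prL h), ← Category.assoc, hab, Category.assoc]

/-- The relation on points of `P` over `V` and the projection to the complement. -/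
theorem comp_prL_iff (h : IsSemi l ((Over.pullback f).map u)) {T : Scheme.{u}}
    (a b : T ⟶ (Red.bc f P).left) :
    a ≫ (prL h).left = b ≫ (prL h).left ↔
      Rel (tt u) (ss (F := U) (G := P)) (a ≫ pullback.fst P.hom f) (b ≫ pullback.fst P.hom f) := by
  constructor
  · intro hab
    have hw := w_of_comp_prL f h hab
    let X : Over V := Over.mk (b ≫ (Red.bc f P).hom)
    let a' : X ⟶ Red.bc f P := Over.homMk a hw
    let b' : X ⟶ Red.bc f P := Over.homMk b rfl
    obtain ⟨c, hc⟩ := (prL_eq_iff' h a' b').1 (Over.OverMorphism.ext hab)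
    have h1 : (BcPts.bcEquiv f X P).symm a' =
        ((BcPts.bcEquiv f X U).symm c ≫ u) * (BcPts.bcEquiv f X P).symm b' := by
      rw [hc]
      refine ((BcPts.bcMulEquiv f X P).symm.map_mul _ _).trans ?_
      congr 1
      exact BcPts.bcEquiv_symm_comp f c u
    have h2 := (rel_left_iff (u := u) (a := (BcPts.bcEquiv f X P).symm a')
      (b := (BcPts.bcEquiv f X P).symm b')).2 ⟨_, h1⟩
    rw [bcEquiv_symm_left, bcEquiv_symm_left] at h2
    exact h2
  · intro hab
    have hw : a ≫ (Red.bc f P).hom = b ≫ (Red.bc f P).hom := by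
      obtain ⟨r, hr1, hr2⟩ := hab
      have h1 : tt u ≫ P.hom = (U ⊗ P).hom := Over.w ((u ▷ P) ≫ μ[P])
      have h2 : ss ≫ P.hom = (U ⊗ P).hom := Over.w (snd U P)
      rw [← cancel_mono f]
      change (a ≫ pullback.snd P.hom f) ≫ f = (b ≫ pullback.snd P.hom f) ≫ f
      rw [Category.assoc, Category.assoc, ← pullback.condition, ← Category.assoc, ← hr1,
        ← Category.assoc, ← hr2, Category.assoc, Category.assoc, h1, h2]
    let X : Over V := Over.mk (b ≫ (Red.bc f P).hom)
    let a' : X ⟶ Red.bc f P := Over.homMk a hw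
    let b' : X ⟶ Red.bc f P := Over.homMk b rfl
    have h0 : Rel (tt u) (ss (F := U) (G := P)) ((BcPts.bcEquiv f X P).symm a').left
        ((BcPts.bcEquiv f X P).symm b').left := by
      rw [bcEquiv_symm_left, bcEquiv_symm_left]
      exact hab
    obtain ⟨c, hc⟩ := rel_left_iff.1 h0
    have h1 : a' = (BcPts.bcEquiv f X U c ≫ (Over.pullback f).map u) * b' := by
      have h2 := congrArg (BcPts.bcEquiv f X P) hc
      rw [BcPts.bcEquiv_mul, BcPts.bcEquiv_comp, Equiv.apply_symm_apply,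
        Equiv.apply_symm_apply] at h2
      exact h2
    have h3 := (prL_eq_iff' h a' b').2 ⟨_, h1⟩
    exact congrArg (fun k => k.left) h3

/-- The part of `P` over `V` has a quotient. -/
theorem hasQuot_opn (h : IsSemi l ((Over.pullback f).map u)) (h1 : Flat U.hom)
    (h2 : LocallyOfFinitePresentation U.hom) :
    HasQuot (tt u) (ss (F := U) (G := P)) (opn f P) := by
  let e := (pullback.fst P.hom f).isoOpensRange
  have he : e.inv ≫ pullback.fst P.hom f = (opn f P).ι :=
    (pullback.fst P.hom f).isoOpensRange_inv_comp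
  have f1 : Flat (prL h).left :=
    prop_prL @Flat h (MorphismProperty.pullback_snd (P := @Flat) _ _ h1)
  have f2 : LocallyOfFinitePresentation (prL h).left :=
    prop_prL @LocallyOfFinitePresentation h
      (MorphismProperty.pullback_snd (P := @LocallyOfFinitePresentation) _ _ h2)
  have f3 := surjective_prL h
  refine ⟨L.left, e.inv ≫ (prL h).left, inferInstance, inferInstance, inferInstance,
    fun {T} a b => ?_⟩
  rw [← Category.assoc, ← Category.assoc, comp_prL_iff, Category.assoc, Category.assoc, he]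

end Loc

section Main

variable {S : Scheme.{u}} {P U : Over S} [GrpObj P] [GrpObj U]

/-- A point-wise criterion for pullback squares. -/
theorem isPullback_of_points {C : Type*} [Category C] {W X Y Z : C} {a : W ⟶ X} {b : W ⟶ Y}
    {g : X ⟶ Z} {k : Y ⟶ Z} (w : a ≫ g = b ≫ k)
    (hm : ∀ {T : C} (x y : T ⟶ W), x ≫ a = y ≫ a → x ≫ b = y ≫ b → x = y)
    (he : ∀ {T : C} (x : T ⟶ X) (y : T ⟶ Y), x ≫ g = y ≫ k →
      ∃ z : T ⟶ W, z ≫ a = x ∧ z ≫ b = y) : IsPullback a b g k := by
  refine ⟨⟨w⟩, ⟨PullbackCone.IsLimit.mk w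
    (fun c => (he c.fst c.snd c.condition).choose)
    (fun c => (he c.fst c.snd c.condition).choose_spec.1)
    (fun c => (he c.fst c.snd c.condition).choose_spec.2) ?_⟩⟩
  intro c m h1 h2
  apply hm
  · rw [h1, (he c.fst c.snd c.condition).choose_spec.1]
  · rw [h2, (he c.fst c.snd c.condition).choose_spec.2]

/-- For a normal subgroup the quotient by left translations is the quotient by right
translations. -/
theorem isPullback_right {X : Over S} {u : U ⟶ P} [IsMonHom u] [Mono u]
    (hn : AlgGrp.IsNormalHom u) {q : P ⟶ X} (hq : IsPullback ((u ▷ P) ≫ μ[P]) (snd U P) q q) :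
    IsPullback (fst P U) ((P ◁ u) ≫ μ[P]) q q := by
  have hw : (u ▷ P) ≫ μ[P] ≫ q = snd U P ≫ q := by rw [← Category.assoc]; exact hq.w
  have h0 : ∀ {T : Over S} (a : T ⟶ P) (c : T ⟶ U), lift a c ≫ (P ◁ u) ≫ μ[P] = a * (c ≫ u) := by
    intro T a c
    rw [Hom.mul_def, ← Category.assoc]
    congr 1
    ext1 <;> simp
  have h0' : ∀ {T : Over S} (z : T ⟶ P ⊗ U), z ≫ (P ◁ u) ≫ μ[P] = (z ≫ fst P U) *
      ((z ≫ snd P U) ≫ u) := by
    intro T z
    rw [← h0]
    congr 1
    ext1 <;> simp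
  refine isPullback_of_points ?_ ?_ ?_
  · have h1 := h0' (𝟙 (P ⊗ U))
    rw [Category.id_comp, Category.id_comp, Category.id_comp] at h1
    rw [h1]
    obtain ⟨c, hc⟩ := hn _ (fst P U) (snd P U)
    have h2 : fst P U * (snd P U ≫ u) = (c ≫ u) * fst P U := by
      rw [← hc]; group
    rw [h2, Groth.Agent.Sga3C.QuotGrpObj.mul_comp_eq hw]
  · intro T x y h1 h2
    rw [h0', h0', h1] at h2
    have h3 := (cancel_mono u).1 (mul_left_cancel h2)
    ext1
    · exact h1
    · exact h3
  · intro T x y hxy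
    obtain ⟨c, hc⟩ := Groth.Agent.Sga3C.QuotGrpObj.exists_fac_of_comp_eq hq y x hxy.symm
    obtain ⟨c', hc'⟩ := hn T x⁻¹ c
    refine ⟨lift x c', lift_fst _ _, ?_⟩
    rw [h0, ← hc', hc]
    group

/-- **Quotients by a normal subgroup with local complements.** -/
theorem exists_quotient (u : U ⟶ P) [IsMonHom u] [Mono u] (hn : AlgGrp.IsNormalHom u)
    (h1 : Flat U.hom) (h2 : LocallyOfFinitePresentation U.hom)
    (hloc : ∀ s : S, ∃ (V : Scheme.{u}) (f : V ⟶ S), IsOpenImmersion f ∧ s ∈ Set.range f ∧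
      ∃ (L : Over V) (_ : GrpObj L) (l : L ⟶ Red.bc f P), IsSemi l ((Over.pullback f).map u)) :
    ∃ (X : Over S) (_ : GrpObj X) (q : P ⟶ X), IsMonHom q ∧ Flat q.left ∧ Surjective q.left ∧
      LocallyOfFinitePresentation q.left ∧ IsPullback ((u ▷ P) ≫ μ[P]) (snd U P) q q := by
  have hR : IsERel (tt u) (ss (F := U) (G := P)) := isERel
  obtain ⟨X, q, hq⟩ := Groth.Agent.Sga3C.QuotGlue.exists_isQuot hR fun x => by
    obtain ⟨V, f, hf, hs, L, _, l, h⟩ := hloc (P.hom x)
    exact ⟨opn f P, (mem_opn f).2 hs, sat_opn f, hasQuot_opn f h h1 h2⟩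
  obtain ⟨π, hπ⟩ := hq.exists_desc P.hom (by
    exact (Over.w ((u ▷ P) ≫ μ[P])).trans (Over.w (snd U P)).symm)
  let q' : P ⟶ Over.mk π := Over.homMk q hπ
  have f1 : Flat q'.left := hq.flat
  have f2 : Surjective q'.left := hq.surj
  have f3 : LocallyOfFinitePresentation q'.left := hq.lfp
  have hpb : IsPullback ((u ▷ P) ≫ μ[P]) (snd U P) q' q' :=
    IsPullback.of_map (Over.forget S) (Over.OverMorphism.ext (hq.isPullback hR).w)
      (hq.isPullback hR)
  obtain ⟨G, hG⟩ := Groth.Agent.Sga3C.QuotProps.exists_grpObj_quotient u q' hpb hn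
  exact ⟨Over.mk π, G, q', hG, f1, f2, f3, hpb⟩

/-- Two points of `P` have the same image under `q` iff they differ by a point of `U`. -/
def Agree {X : Over S} (u : U ⟶ P) (q : P ⟶ X) : Prop :=
  ∀ (T : Over S) (x y : T ⟶ P), x ≫ q = y ≫ q ↔ ∃ c : T ⟶ U, x = (c ≫ u) * y

omit [GrpObj U] in
theorem agree_of_isPullback {X : Over S} {u : U ⟶ P} {q : P ⟶ X}
    (hq : IsPullback ((u ▷ P) ≫ μ[P]) (snd U P) q q) : Agree u q := by
  have hw : (u ▷ P) ≫ μ[P] ≫ q = snd U P ≫ q := by rw [← Category.assoc]; exact hq.w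
  intro T x y
  constructor
  · exact Groth.Agent.Sga3C.QuotGrpObj.exists_fac_of_comp_eq hq x y
  · rintro ⟨c, rfl⟩
    exact Groth.Agent.Sga3C.QuotGrpObj.mul_comp_eq hw c y

omit [GrpObj U] in
theorem Agree.bc {X : Over S} {u : U ⟶ P} {q : P ⟶ X} (h : Agree u q) {S' : Scheme.{u}}
    (f : S' ⟶ S) : Agree ((Over.pullback f).map u) ((Over.pullback f).map q) := by
  intro T x y
  have h1 := h _ ((BcPts.bcEquiv f T P).symm x) ((BcPts.bcEquiv f T P).symm y)
  rw [← BcPts.bcEquiv_symm_comp, ← BcPts.bcEquiv_symm_comp, Equiv.apply_eq_iff_eq] at h1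
  rw [h1]
  constructor
  · rintro ⟨c, hc⟩
    refine ⟨BcPts.bcEquiv f T U c, ?_⟩
    have h2 := congrArg (BcPts.bcEquiv f T P) hc
    rw [BcPts.bcEquiv_mul, BcPts.bcEquiv_comp, Equiv.apply_symm_apply,
      Equiv.apply_symm_apply] at h2
    exact h2
  · rintro ⟨c, rfl⟩
    refine ⟨(BcPts.bcEquiv f T U).symm c, ?_⟩
    refine ((BcPts.bcMulEquiv f T P).symm.map_mul _ _).trans ?_
    congr 1
    exact BcPts.bcEquiv_symm_comp f c u

/-- **Comparison of the quotient with a complement.** -/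
theorem nonempty_iso {u : U ⟶ P} {L X : Over S} [GrpObj L] [GrpObj X] {l : L ⟶ P}
    (h : IsSemi l u) (q : P ⟶ X) [IsMonHom q] (f1 : Flat q.left) (f2 : Surjective q.left)
    (f3 : LocallyOfFinitePresentation q.left) (hq : Agree u q) :
    Nonempty (Grp.mk L ≅ Grp.mk X) := by
  have := h.monHom_l
  have := h.monHom_u
  have := Groth.Agent.Sga3C.QuotProps.epi_of_flat_surjective q
  obtain ⟨ψ, hψ⟩ := Groth.Agent.Sga3C.QuotProps.exists_desc q (prL h) (by
    intro T x y hxy
    obtain ⟨c, rfl⟩ := (hq T x y).1 hxy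
    exact (prL_eq_iff' h _ _).2 ⟨c, rfl⟩)
  let e : L ≅ X :=
    { hom := l ≫ q
      inv := ψ
      hom_inv_id := by rw [Category.assoc, hψ, l_prL]
      inv_hom_id := by
        rw [← cancel_epi q, ← Category.assoc, hψ, Category.comp_id]
        obtain ⟨c, hc⟩ := (prL_eq_iff' h (𝟙 P) (prL h ≫ l)).1 (by
          rw [Category.id_comp, Category.assoc, l_prL, Category.comp_id])
        have h1 := (hq _ _ _).2 ⟨c, hc⟩
        rw [Category.id_comp, Category.assoc] at h1
        exact h1.symm }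
  have : IsMonHom e.hom := inferInstanceAs (IsMonHom (l ≫ q))
  exact ⟨Grp.mkIso' e⟩

end Main

end Groth.Agent.RedSub.H655.QuotSemi
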