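import Groth.Agent.RedSub.H655.QuotSemi
import Groth.Agent.Sga3B.Parab.LeviDesc147
import Groth.Agent.Sga3B.Parab.Uncond688
import Groth.Agent.Sga3B.Par.LevFin622
import Groth.Agent.Sga3B.SplitFin885
import Groth.Agent.Sga3B.AlgBc

/-!
# The quotient of a parabolic subgroup by its unipotent radical

`P` a parabolic subgroup of the reductive `S`-group `G`, `u : U ⟶ P` its unipotent radical: the fppf
quotient `P / U` exists and is a reductive `S`-group; locally on `S` it is isomorphic to a Levi
subgroup of `P`.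
-/

set_option autoImplicit false

universe u

open CategoryTheory MonoidalCategory CartesianMonoidalCategory MonObj GrpObj AlgebraicGeometry

namespace Groth.Agent.RedSub.H655.RadQuot

open Groth.Agent.Sga3B Groth.Agent.Sga3B.Parab Groth.Agent.Sga3B.Par.LeviProj QuotSemi

variable {S : Scheme.{u}} {G P U : Over S} [GrpObj G] [GrpObj P] [GrpObj U]

/-- Every parabolic subgroup of a reductive group has a unipotent radical. -/
theorem exists_rad (hG : Red.IsReductive G) {p : P ⟶ G} (hP : Red.IsParabolic p) :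
    ∃ (U : Over S) (_ : GrpObj U) (u : U ⟶ P), Par.IsUnipotentRadical u := by
  obtain ⟨U, _, u, hu, -⟩ := RadExist147.exists_rad Uncond688.radPcU Uncond688.radPcP hG hP
  exact ⟨U, _, u, hu⟩

/-- The unipotent radical of a parabolic subgroup commutes with étale base change. -/
theorem isUnipotentRadical_bc (hG : Red.IsReductive G) {p : P ⟶ G} (hP : Red.IsParabolic p)
    {v : U ⟶ P} (hv : Par.IsUnipotentRadical v) {S' : Scheme.{u}} (f : S' ⟶ S) [Etale f] :
    Par.IsUnipotentRadical ((Over.pullback f).map v) :=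
  LeviDesc147.isUnipotentRadical_bc Uncond688.radPcU Uncond688.radPcP hG hP hv f

/-- Locally on the base there are Levi subgroups. -/
theorem exists_local_levi (hG : Red.IsReductive G) {p : P ⟶ G} (hP : Red.IsParabolic p)
    {v : U ⟶ P} (hv : Par.IsUnipotentRadical v) (s : S) :
    ∃ (V : Scheme.{u}) (f : V ⟶ S), IsOpenImmersion f ∧ s ∈ Set.range f ∧
      ∃ (L : Over V) (_ : GrpObj L) (l : L ⟶ Red.bc f P), Red.IsReductive L ∧
        IsSemi l ((Over.pullback f).map v) := by
  let f : Spec (CommRingCat.of (S.affineOpenCover.X (S.affineOpenCover.idx s))) ⟶ S :=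
    S.affineOpenCover.f (S.affineOpenCover.idx s)
  have h1 : s ∈ Set.range f := S.affineOpenCover.covers s
  have h2 : IsOpenImmersion f := S.affineOpenCover.map_prop _
  have h3 : LocallyQuasiFinite f := Desc.LQF.of_etale f
  obtain ⟨L, _, l, hl⟩ := Groth.Agent.Sga3B.Par.LevFin622.exists_levi SplitFin885.splitTStmt
    (RedCover147.isReductive_bc f hG) _ (RedCover147.isParabolic_bc f hP)
  exact ⟨_, f, h2, h1, L, _, l, hl.2.2.1, isSemi_of_isLevi hl (isUnipotentRadical_bc hG hP hv f)⟩

/-- **The quotient of a parabolic subgroup by its unipotent radical.** -/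
theorem exists_quotient_of_rad (hG : Red.IsReductive G) {p : P ⟶ G} (hP : Red.IsParabolic p)
    {v : U ⟶ P} (hv : Par.IsUnipotentRadical v) :
    ∃ (L : Over S) (_ : GrpObj L) (q : P ⟶ L), IsMonHom q ∧ RedSub.IsQuotient v q ∧
      Red.IsReductive L := by
  have := hv.1
  have hc : IsClosedImmersion v.left := hv.2.1
  have hm : Mono v := Groth.Agent.Sga3C.ClosedSub.mono_of_left v
  have hn : AlgGrp.IsNormalHom v := hv.2.2.1
  have hs : Smooth U.hom := hv.2.2.2.1
  obtain ⟨X, _, q, hq, f1, f2, f3, hpb⟩ := QuotSemi.exists_quotient v hn inferInstance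
    inferInstance (fun s => by
      obtain ⟨V, f, h1, h2, L, _, l, -, h⟩ := exists_local_levi hG hP hv s
      exact ⟨V, f, h1, h2, L, _, l, h⟩)
  refine ⟨X, _, q, hq, ⟨f2, f1, f3, isPullback_right hn hpb⟩, ?_⟩
  choose V f h1 h2 h3 using exists_local_levi hG hP hv
  have hcov : RedCover147.IsEtCov f := RedCover147.IsEtCov.of_etale f (fun s => by
    have := h1 s
    infer_instance) fun s => ⟨s, h2 s⟩
  refine RedCover147.isReductive_of_cover hcov fun s => ?_
  obtain ⟨L, _, l, hL, h⟩ := h3 s
  have hpb' := (EtHom.isPullback_map (f s) q).flip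
  obtain ⟨e⟩ := nonempty_iso h ((Over.pullback (f s)).map q)
    (MorphismProperty.of_isPullback (P := @Flat) hpb'.flip f1)
    (MorphismProperty.of_isPullback (P := @Surjective) hpb'.flip f2)
    (MorphismProperty.of_isPullback (P := @LocallyOfFinitePresentation) hpb'.flip f3)
    ((agree_of_isPullback hpb).bc (f s))
  exact AlgBc.isReductive_of_iso e hL

theorem exists_rad_quotient (hG : Red.IsReductive G) (p : P ⟶ G) (hP : Red.IsParabolic p) :
    ∃ (U : Over S) (_ : GrpObj U) (u : U ⟶ P), Par.IsUnipotentRadical u ∧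
      ∃ (L : Over S) (_ : GrpObj L) (q : P ⟶ L), IsMonHom q ∧ RedSub.IsQuotient u q ∧
        Red.IsReductive L := by
  obtain ⟨U, _, u, hu⟩ := exists_rad hG hP
  exact ⟨U, _, u, hu, exists_quotient_of_rad hG hP hu⟩

end Groth.Agent.RedSub.H655.RadQuot
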